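import Cfsg.Agent.H990.TC.Univ
import Cfsg.Agent.H6.QO.Frame
import Cfsg.Agent.Fischer.Fi23Double
import Cfsg.Agent.Fischer.Fi22PtsRep
import Cfsg.Agent.S1696
import Cfsg.Agent.H51.Mult
import Cfsg.Agent.H878.EPX.FiK
import Cfsg.Agent.S2053
import Cfsg.Agent.FastGrp
import Cfsg.Agent.Prune
set_option linter.all false
prune_inst 0x7f00000000000000000000000000000000000000000000000000000000000000000000000000000000000000000000000000000000000000000000000000000000000000000000000000000000000000003fffffffffffffffffffffffffffbeffbdffffffff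
open scoped Cfsg.Agent.FastGrp

-- part: H326/QS/Fuse
section
/-!
# Fused elements of perfect central extensions (helper326)

`Sf π hc y` : the central elements `z ∈ ker π` with `y z` conjugate to `y`.

* `Sf_eq_of_prime` : `|ker π| = p` and a lift of an element of `C(π y)` which does not commute with `y`;
* `fuse` : two perfect central extensions of `K` with coprime kernels whose orders have product `|M(K)|`: if `x` is
  fused in both, then `x` is fused in every perfect central extension.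
* `fuse_one` : the same with one perfect central extension, `|ker| = |M(K)|`.
-/

set_option autoImplicit false

namespace Cfsg.Agent.H326.QS.Fuse

open Subgroup Cfsg.Agent.H51.Mult Cfsg.Agent.H68.Bounds Cfsg.Agent.H990.TC

universe u v w x' u'

section basic

variable {L : Type u} {K : Type v} [Group L] [Group K]

/-- the central elements `z` with `y ~ y z` -/
def Sf (π : L →* K) (hc : π.ker ≤ center L) (y : L) : Subgroup L where
  carrier := {z | π z = 1 ∧ ∃ c, c * y * c⁻¹ = y * z}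
  one_mem' := ⟨map_one _, 1, by simp⟩
  mul_mem' := by
    rintro z w ⟨hz, c, hc1⟩ ⟨hw, d, hd⟩
    refine ⟨by rw [map_mul, hz, hw, mul_one], c * d, ?_⟩
    have h1 : w * c⁻¹ = c⁻¹ * w := (mem_center_iff.1 (hc hw) c⁻¹).symm
    calc c * d * y * (c * d)⁻¹ = c * (d * y * d⁻¹) * c⁻¹ := by group
      _ = c * (y * w) * c⁻¹ := by rw [hd]
      _ = c * y * (w * c⁻¹) := by group
      _ = (c * y * c⁻¹) * w := by rw [h1]; group
      _ = y * (z * w) := by rw [hc1, mul_assoc]
  inv_mem' := by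
    rintro z ⟨hz, c, hc1⟩
    refine ⟨by rw [map_inv, hz, inv_one], c⁻¹, ?_⟩
    have h1 : z * c = c * z := (mem_center_iff.1 (hc hz) c).symm
    have h2 : y = c * y * c⁻¹ * z⁻¹ := by rw [hc1, mul_inv_cancel_right]
    have h3 : z⁻¹ * c = c * z⁻¹ := by
      rw [inv_mul_eq_iff_eq_mul, ← mul_assoc, h1, mul_inv_cancel_right]
    calc c⁻¹ * y * c⁻¹⁻¹ = c⁻¹ * (c * y * c⁻¹ * z⁻¹) * c := by rw [← h2, inv_inv]
      _ = y * c⁻¹ * (z⁻¹ * c) := by group
      _ = y * z⁻¹ := by rw [h3]; group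

variable {π : L →* K} {hc : π.ker ≤ center L}

theorem Sf_le (y : L) : Sf π hc y ≤ π.ker := fun _ h => h.1

/-- the lift does not matter -/
theorem Sf_mul {y ζ : L} (hζ : π ζ = 1) : Sf π hc y ≤ Sf π hc (y * ζ) := by
  rintro z ⟨hz, c, h⟩
  refine ⟨hz, c, ?_⟩
  have h1 : ζ * c⁻¹ = c⁻¹ * ζ := (mem_center_iff.1 (hc hζ) c⁻¹).symm
  have h2 : z * ζ = ζ * z := mem_center_iff.1 (hc hζ) z
  calc c * (y * ζ) * c⁻¹ = c * y * (ζ * c⁻¹) := by group
    _ = (c * y * c⁻¹) * ζ := by rw [h1]; group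
    _ = y * ζ * z := by rw [h, mul_assoc, h2, mul_assoc]

theorem Sf_eq_ker_of {y y' : L} (h : Sf π hc y = π.ker) (hy : π y = π y') : Sf π hc y' = π.ker := by
  refine le_antisymm (Sf_le _) ?_
  have e : y' = y * (y⁻¹ * y') := by group
  rw [e, ← h]
  exact Sf_mul (by rw [map_mul, map_inv, hy, inv_mul_cancel])

/-- kernel of prime order: one pair of elements which do not commute -/
theorem Sf_eq_of_prime {p : ℕ} (hp : p.Prime) (hcard : Nat.card π.ker = p) {y c : L}
    (hcy : π (c * y) = π (y * c)) (hne : c * y ≠ y * c) : Sf π hc y = π.ker := by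
  have hz : y⁻¹ * (c * y * c⁻¹) ∈ Sf π hc y := by
    refine ⟨?_, c, by group⟩
    rw [map_mul, map_mul, hcy, map_mul, map_inv, map_inv, mul_inv_cancel_right, inv_mul_cancel]
  have hz1 : y⁻¹ * (c * y * c⁻¹) ≠ 1 := by
    intro h
    apply hne
    rw [inv_mul_eq_one] at h
    exact (mul_inv_eq_iff_eq_mul.1 h.symm)
  have hfin : Finite π.ker := Nat.finite_of_card_ne_zero (by rw [hcard]; exact hp.ne_zero)
  have h1 : Nat.card ↥(Sf π hc y) ∣ p := by rw [← hcard]; exact Subgroup.card_dvd_of_le (Sf_le y)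
  rcases (Nat.dvd_prime hp).1 h1 with h2 | h2
  · have hfin' : Finite ↥(Sf π hc y) := Nat.finite_of_card_ne_zero (by rw [h2]; norm_num)
    rw [Subgroup.card_eq_one] at h2
    rw [h2, mem_bot] at hz
    exact absurd hz hz1
  · exact Subgroup.eq_of_le_of_card_ge (Sf_le y) (by rw [h2, hcard])

end basic

section maps

variable {D : Type w} {L : Type u} {K : Type v} [Group D] [Group L] [Group K] {δ : D →* K} {π : L →* K}
  {hcD : δ.ker ≤ center D} {hc : π.ker ≤ center L}

theorem Sf_map {f : D →* L} (hf : ∀ d, π (f d) = δ d) {y z : D} (h : z ∈ Sf δ hcD y) : f z ∈ Sf π hc (f y) := by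
  obtain ⟨hz, c, h1⟩ := h
  refine ⟨by rw [hf, hz], f c, ?_⟩
  rw [← map_mul f y z, ← h1, map_mul, map_mul, map_inv]

theorem Sf_lift {f : D →* L} (hs : Function.Surjective f) (hf : ∀ d, π (f d) = δ d) {y : D} {w : L}
    (h : w ∈ Sf π hc (f y)) : ∃ z ∈ Sf δ hcD y, f z = w := by
  obtain ⟨hw, c, h1⟩ := h
  obtain ⟨d, rfl⟩ := hs c
  have e : f (y⁻¹ * (d * y * d⁻¹)) = w := by
    rw [map_mul, map_mul, map_mul, map_inv, map_inv, h1, inv_mul_cancel_left]
  refine ⟨y⁻¹ * (d * y * d⁻¹), ⟨?_, d, by group⟩, e⟩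
  rw [← hf, e, hw]

theorem card_dvd_Sf {f : D →* L} (hs : Function.Surjective f) (hf : ∀ d, π (f d) = δ d) {y : D}
    (h : Sf π hc (f y) = π.ker) : Nat.card π.ker ∣ Nat.card ↥(Sf δ hcD y) := by
  rw [← h]
  let g : ↥(Sf δ hcD y) →* ↥(Sf π hc (f y)) :=
    (f.comp (Sf δ hcD y).subtype).codRestrict (Sf π hc (f y)) fun z => Sf_map hf z.2
  refine Subgroup.card_dvd_of_surjective g ?_
  rintro ⟨w, hw⟩
  obtain ⟨z, hz, hzw⟩ := Sf_lift (hcD := hcD) hs hf hw
  exact ⟨⟨z, hz⟩, Subtype.ext hzw⟩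

end maps

section main

variable {K : Type v} [Group K] {A : Type u'} [CommGroup A]

end main

end Cfsg.Agent.H326.QS.Fuse
end

-- part: H326/QS/FiRed
section
/-!
# Commutators in a perfect central extension from two triples (helper326; method of helper494)

`K` has multiplier of order six; `π₂ : K₂ → K` and `π₃ : K₃ → K` are perfect central extensions with kernels of order
two and three; `x` is fused in `K₃`.  If `r = h [x, k] h⁻¹ = h' [x, k'] h'⁻¹` in `K` and the two expressions have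
different values in `K₂`, then every element over `r` of every perfect central extension is a commutator.
-/

set_option autoImplicit false

namespace Cfsg.Agent.H326.QS.FiRed

open Subgroup Cfsg.Agent.H51.Mult Cfsg.Agent.H68.Bounds Cfsg.Agent.H990.TC Cfsg.Agent.H326.QS.Fuse
open Cfsg.Agent.H777.Ore

universe u v w x' u'

/-- two different elements of a group of order two -/
theorem eq_or_eq {K : Type v} [Group K] {K2 : Type w} [Group K2] {π2 : K2 →* K} (h2 : Nat.card π2.ker = 2)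
    {s t y : K2} (hst : s ≠ t) (h1 : π2 s = π2 t) (h3 : π2 y = π2 s) : y = s ∨ y = t := by
  have hs : s⁻¹ * t ∈ π2.ker := by rw [MonoidHom.mem_ker, map_mul, map_inv, h1, inv_mul_cancel]
  have hy : s⁻¹ * y ∈ π2.ker := by rw [MonoidHom.mem_ker, map_mul, map_inv, h3, inv_mul_cancel]
  have hne : s⁻¹ * t ≠ 1 := fun h => hst (inv_mul_eq_one.1 h)
  by_cases h : s⁻¹ * y = 1
  · exact Or.inl (inv_mul_eq_one.1 h).symm
  · right
    obtain ⟨a, b, -, hab⟩ := Nat.card_eq_two_iff.1 h2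
    have e : (⟨s⁻¹ * y, hy⟩ : π2.ker) = ⟨s⁻¹ * t, hs⟩ := by
      have u1 : (⟨s⁻¹ * y, hy⟩ : π2.ker) ∈ ({a, b} : Set π2.ker) := hab ▸ Set.mem_univ _
      have u2 : (⟨s⁻¹ * t, hs⟩ : π2.ker) ∈ ({a, b} : Set π2.ker) := hab ▸ Set.mem_univ _
      have u3 : (1 : π2.ker) ∈ ({a, b} : Set π2.ker) := hab ▸ Set.mem_univ _
      have n1 : (⟨s⁻¹ * y, hy⟩ : π2.ker) ≠ 1 := fun h' => h (congrArg Subtype.val h')
      have n2 : (⟨s⁻¹ * t, hs⟩ : π2.ker) ≠ 1 := fun h' => hne (congrArg Subtype.val h')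
      simp only [Set.mem_insert_iff, Set.mem_singleton_iff] at u1 u2 u3
      rcases u1 with h' | h' <;> rcases u2 with h'' | h'' <;> rcases u3 with h3 | h3 <;>
        first
          | exact h'.trans h''.symm
          | exact absurd (h'.trans h3.symm) n1
          | exact absurd (h''.trans h3.symm) n2
    exact mul_left_cancel (congrArg Subtype.val e)

/-- a central factor is absorbed by a conjugation of `Y` -/
theorem isC_mul_of_conj {L : Type u} [Group L] {Y k h c ζ : L} (hζ : ζ ∈ center L) (hc : c * Y * c⁻¹ = Y * ζ⁻¹) :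
    IsC (h * (Y * k * Y⁻¹ * k⁻¹) * h⁻¹ * ζ) := by
  have hz : ∀ g, g * ζ = ζ * g := fun g => mem_center_iff.1 hζ g
  have h1 : c * Y⁻¹ * c⁻¹ = ζ * Y⁻¹ := by
    calc c * Y⁻¹ * c⁻¹ = (c * Y * c⁻¹)⁻¹ := by group
      _ = ζ * Y⁻¹ := by rw [hc]; group
  have h2 : h * (Y * (k * c) * Y⁻¹ * (k * c)⁻¹) * h⁻¹ = h * (Y * k * Y⁻¹ * k⁻¹) * h⁻¹ * ζ := by
    calc h * (Y * (k * c) * Y⁻¹ * (k * c)⁻¹) * h⁻¹ = h * (Y * k * (c * Y⁻¹ * c⁻¹) * k⁻¹) * h⁻¹ := by group
      _ = h * Y * (k * ζ) * Y⁻¹ * k⁻¹ * h⁻¹ := by rw [h1]; group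
      _ = h * Y * (ζ * k) * Y⁻¹ * k⁻¹ * h⁻¹ := by rw [hz k]
      _ = (h * Y) * ζ * (k * Y⁻¹ * k⁻¹ * h⁻¹) := by group
      _ = ζ * (h * Y) * (k * Y⁻¹ * k⁻¹ * h⁻¹) := by rw [hz (h * Y)]
      _ = ζ * (h * (Y * k * Y⁻¹ * k⁻¹) * h⁻¹) := by group
      _ = _ := (hz _).symm
  rw [← h2]
  exact IsC.conj ⟨Y, k * c, rfl⟩ h

section main

variable {K : Type v} [Group K] {A : Type u'} [CommGroup A]

/-- **two triples** -/
theorem isC_of_triples (hM : Cfsg.HasSchurMultiplier K A) (hA : Nat.card A = 6)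
    {K2 : Type w} [Group K2] {π2 : K2 →* K} (h2 : PCE π2) (hc2 : Nat.card π2.ker = 2)
    {K3 : Type x'} [Group K3] {π3 : K3 →* K} (h3 : PCE π3) (hc3 : Nat.card π3.ker = 3)
    {x y3 : K3} (hx3 : π3 (x * y3) = π3 (y3 * x)) (hne3 : x * y3 ≠ y3 * x)
    {y2 h k h' k' : K2} (hy : π2 y2 = π3 y3)
    (hr : π2 (h * (y2 * k * y2⁻¹ * k⁻¹) * h⁻¹) = π2 (h' * (y2 * k' * y2⁻¹ * k'⁻¹) * h'⁻¹))
    (hne2 : h * (y2 * k * y2⁻¹ * k⁻¹) * h⁻¹ ≠ h' * (y2 * k' * y2⁻¹ * k'⁻¹) * h'⁻¹)
    {L : Type u} [Group L] {π : L →* K} (hπ : PCE π) {g : L}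
    (hg : π g = π2 (h * (y2 * k * y2⁻¹ * k⁻¹) * h⁻¹)) : IsC g := by
  obtain ⟨D, _, f, e, hf, he, hfe, hD, -⟩ := exists_common h2 h3
  obtain ⟨E, _, a, b, ha, hb, hab, hE, -⟩ := exists_common hD hπ
  -- the three maps
  set τ : E →* K := (π2.comp f).comp a with hτ
  have t2 : ∀ z, π2 (f (a z)) = τ z := fun _ => rfl
  have t3 : ∀ z, π3 (e (a z)) = τ z := fun z => (DFunLike.congr_fun hfe (a z)).symm
  have tb : ∀ z, π (b z) = τ z := fun z => (DFunLike.congr_fun hab z).symm
  have s2 : Function.Surjective (f.comp a) := hf.surj.comp ha.surj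
  have s3 : Function.Surjective (e.comp a) := he.surj.comp ha.surj
  -- orders
  have c1 : Nat.card τ.ker ∣ 6 := by rw [← hA]; exact card_ker_dvd hM hE
  have c2 : Nat.card τ.ker = 2 * Nat.card (f.comp a).ker := by
    have h5 := card_ker_comp (ρ := π2) s2
    rw [hc2] at h5
    exact h5
  have c3 : Nat.card (f.comp a).ker ∣ 3 := by
    rw [c2] at c1
    exact Nat.dvd_of_mul_dvd_mul_left (by norm_num : 0 < 2) c1
  have hfinτ : Finite τ.ker := Nat.finite_of_card_ne_zero fun h => by rw [h] at c1; omega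
  -- lifts
  obtain ⟨Y, hY⟩ := s2 y2
  obtain ⟨H, hH⟩ := s2 h
  obtain ⟨H', hH'⟩ := s2 h'
  obtain ⟨X, hX⟩ := s2 k
  obtain ⟨X', hX'⟩ := s2 k'
  obtain ⟨G, rfl⟩ := hb.surj g
  have v1 : (f.comp a) (H * (Y * X * Y⁻¹ * X⁻¹) * H⁻¹) = h * (y2 * k * y2⁻¹ * k⁻¹) * h⁻¹ := by
    simp only [map_mul, map_inv, hY, hH, hX]
  have v2 : (f.comp a) (H' * (Y * X' * Y⁻¹ * X'⁻¹) * H'⁻¹) = h' * (y2 * k' * y2⁻¹ * k'⁻¹) * h'⁻¹ := by
    simp only [map_mul, map_inv, hY, hH', hX']
  have hG : π2 ((f.comp a) G) = π2 (h * (y2 * k * y2⁻¹ * k⁻¹) * h⁻¹) := by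
    rw [← hg, tb]
    rfl
  -- the fused elements
  have hS3 : Sf π3 h3.cen ((e.comp a) Y) = π3.ker := by
    refine Sf_eq_ker_of (y := y3) (Sf_eq_of_prime Nat.prime_three hc3 hx3 hne3) ?_
    rw [← hy, ← hY]
    exact ((t3 Y).trans (t2 Y).symm).symm
  have hS : 3 ∣ Nat.card ↥(Sf τ hE.cen Y) := by
    rw [← hc3]
    exact card_dvd_Sf (hcD := hE.cen) (hc := h3.cen) s3 (fun z => t3 z) hS3
  have hle : (f.comp a).ker ≤ Sf τ hE.cen Y := by
    have hfinS : Finite ↥(Sf τ hE.cen Y) := Finite.Set.subset (τ.ker : Set E) (Sf_le Y)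
    have : Fact (Nat.Prime 3) := ⟨Nat.prime_three⟩
    obtain ⟨z, hz⟩ := exists_prime_orderOf_dvd_card' 3 hS
    have hz3 : orderOf (z : E) = 3 := by rw [← hz]; exact orderOf_submonoid z
    -- `z` lies in the kernel of `f ∘ a`
    have hz1 : (z : E) ∈ (f.comp a).ker := by
      rw [MonoidHom.mem_ker, ← orderOf_eq_one_iff]
      have d1 : orderOf ((f.comp a) (z : E)) ∣ 3 := by rw [← hz3]; exact orderOf_map_dvd _ _
      have hm : (f.comp a) (z : E) ∈ π2.ker := z.2.1
      have d2 : orderOf ((f.comp a) (z : E)) ∣ 2 := by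
        have h6 : orderOf (⟨(f.comp a) (z : E), hm⟩ : π2.ker) ∣ Nat.card π2.ker := orderOf_dvd_natCard _
        rw [hc2] at h6
        rwa [Subgroup.orderOf_mk] at h6
      have h7 := Nat.dvd_gcd d1 d2
      exact Nat.dvd_one.1 (by simpa using h7)
    have hcard : Nat.card ↥(zpowers (z : E)) = 3 := by rw [Nat.card_zpowers, hz3]
    have hle1 : zpowers (z : E) ≤ (f.comp a).ker := by rw [zpowers_le]; exact hz1
    have hfin2 : Finite ↥(f.comp a).ker := Nat.finite_of_card_ne_zero fun h => by rw [h] at c3; omega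
    have heq : zpowers (z : E) = (f.comp a).ker :=
      Subgroup.eq_of_le_of_card_ge hle1 (by rw [hcard]; exact Nat.le_of_dvd (by norm_num) c3)
    rw [← heq, zpowers_le]
    exact z.2
  -- the end
  have fin : ∀ H X : E, (f.comp a) G = (f.comp a) (H * (Y * X * Y⁻¹ * X⁻¹) * H⁻¹) → IsC G := by
    intro H X hGX
    set B := H * (Y * X * Y⁻¹ * X⁻¹) * H⁻¹ with hB
    have hu : B⁻¹ * G ∈ (f.comp a).ker := by
      rw [MonoidHom.mem_ker, map_mul, map_inv, hGX, inv_mul_cancel]
    obtain ⟨-, c, hc⟩ := inv_mem (hle hu)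
    have hcen : B⁻¹ * G ∈ center E := hE.cen (hle hu).1
    have h8 := isC_mul_of_conj (h := H) (k := X) hcen hc
    rw [← hB, mul_inv_cancel_left] at h8
    exact h8
  have hGC : IsC G := by
    rcases eq_or_eq hc2 hne2 hr hG with h9 | h9
    · exact fin H X (by rw [h9, v1])
    · exact fin H' X' (by rw [h9, v2])
  exact hGC.map b

end main

end Cfsg.Agent.H326.QS.FiRed
end

-- part: H326/QS/FiTwo
section
/-!
# The double cover `2.Fi22` as the subgroup `⟨a, …, i⟩` of the presented `Fi23`: words (helper326)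

* `pi2 : K2 →* Fi22`, `pi2 (x p) = of p`, `pce2`, `card_ker2`;
* `wd2 w` : the value of a word; `pi2_wd2`; `wd2_ne` : a word which moves a point of the action of degree 31671;
* `comm_ne` : two words which do not commute.
-/

set_option autoImplicit false
set_option maxRecDepth 100000

namespace Cfsg.Agent.H326.QS.FiTwo

open Cfsg Cfsg.Spor Cfsg.Agent.Lib.PermNet Cfsg.Agent.Lib.PermNetOrbit Cfsg.Agent.Fischer
open Cfsg.Agent.H51.Mult

/-- `2.Fi22` -/
abbrev K2 : Type := ↥Fi23Double.K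

theorem simple22 : IsSimpleGroup Spor.Fi22 := Cfsg.Agent.S1696.result.1

/-- the isomorphism of `Fi22` with `K2 / Z(K2)` -/
noncomputable def eq2 : Spor.Fi22 ≃* K2 ⧸ Subgroup.center K2 :=
  DoubleFi22.thetaEquiv (Subgroup.center K2) Fi23Double.hyp (DoubleFi22.z_mem_center Fi23Double.hyp) simple22
    (DoubleFi22.center_ne_top Fi23Double.hyp)

/-- the homomorphism onto `Fi22` -/
noncomputable def pi2 : K2 →* Spor.Fi22 := eq2.symm.toMonoidHom.comp (QuotientGroup.mk' (Subgroup.center K2))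

theorem pi2_x (p : Fi22.Gen) : pi2 (Fi23Double.x p) = Fi22PtsRep.gen p := by
  show eq2.symm (QuotientGroup.mk' (Subgroup.center K2) (Fi23Double.x p)) = Fi22PtsRep.gen p
  rw [MulEquiv.symm_apply_eq]
  exact (DoubleFi22.theta_of (Subgroup.center K2) Fi23Double.hyp (DoubleFi22.z_mem_center Fi23Double.hyp) p).symm

theorem ker2 : pi2.ker = Subgroup.center K2 := by
  ext y
  rw [MonoidHom.mem_ker]
  show eq2.symm (QuotientGroup.mk' (Subgroup.center K2) y) = 1 ↔ _
  rw [map_eq_one_iff eq2.symm eq2.symm.injective]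
  exact QuotientGroup.eq_one_iff y

theorem surj2 : Function.Surjective pi2 := eq2.symm.surjective.comp (QuotientGroup.mk'_surjective _)

theorem pce2 : PCE pi2 := ⟨surj2, ker2.le, DoubleFi22.commutator_eq_top Fi23Double.hyp⟩

theorem card_ker2 : Nat.card pi2.ker = 2 := by
  rw [ker2]
  exact DoubleFi22.card_center Fi23Double.hyp simple22

/-- the value of a word in `2.Fi22` -/
noncomputable def wd2 (w : List Fi22.Gen) : K2 := (w.map Fi23Double.x).prod

theorem wd2_append (v w : List Fi22.Gen) : wd2 (v ++ w) = wd2 v * wd2 w := by simp [wd2]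

theorem pi2_wd2 (w : List Fi22.Gen) : pi2 (wd2 w) = Fi22PtsRep.wd w := by
  unfold wd2
  induction w with
  | nil => rw [List.map_nil, List.prod_nil, map_one, Fi22PtsRep.wd_nil]
  | cons y w ih => rw [List.map_cons, List.prod_cons, map_mul, ih, pi2_x, Fi22PtsRep.wd_cons]

theorem coe_wd2 (w : List Fi22.Gen) : ((wd2 w : K2) : Spor.Fi23) = Fi23Orb.word (w.map Fi23Double.emb) := by
  unfold wd2 Fi23Orb.word
  induction w with
  | nil => rfl
  | cons y w ih =>
    rw [List.map_cons, List.prod_cons, Subgroup.coe_mul, ih, List.map_cons, List.map_cons, List.prod_cons]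
    rfl

/-- the word of networks of degree 31671 -/
noncomputable def nw2 (w : List Fi22.Gen) : List Net := (w.map Fi23Double.emb).map Fi23Rel.net

end Cfsg.Agent.H326.QS.FiTwo
end

-- part: H326/QS/FiTwoTest
section
/-!
# `2.Fi22`: words with letters `0 … 8`, the test for two words to differ (helper326)

* `x_mul_self`, `wd2_reverse`;
* `gn : ℕ → Fi22.Gen` (`0 … 8` = `a … i`), `v2 (w : List ℕ) : K2`, `pi2_v2`, `v2_append`, `v2_reverse`;
* `v2_ne : chk2 u v p = true → v2 u ≠ v2 v` : the two words move one point of the action of degree 31671 differently;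
* `z2_unique` : if two elements have the same image in `Fi22` and a third as well, two of the three are equal.
-/

set_option autoImplicit false
set_option maxRecDepth 100000

namespace Cfsg.Agent.H326.QS.FiTwo

open Cfsg Cfsg.Spor Cfsg.Agent.Lib.PermNet Cfsg.Agent.Lib.PermNetOrbit Cfsg.Agent.Fischer
open Cfsg.Agent.H51.Mult

theorem x_mul_self (p : Fi22.Gen) : Fi23Double.x p * Fi23Double.x p = 1 := by
  have h := Fi23Double.hyp.cox p p
  have h1 : coxLabel Fi22.edges p p = 1 := by cases p <;> decide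
  rw [h1, pow_one] at h
  exact h

theorem wd2_reverse (w : List Fi22.Gen) : wd2 w.reverse = (wd2 w)⁻¹ := by
  unfold wd2
  induction w with
  | nil => simp
  | cons y w ih =>
    rw [List.reverse_cons, List.map_append, List.prod_append, ih, List.map_cons, List.map_nil, List.prod_cons,
      List.prod_nil, mul_one, List.map_cons, List.prod_cons, mul_inv_rev, inv_eq_of_mul_eq_one_left (x_mul_self y)]

/-- the letters `0 … 8` -/
def gn : ℕ → Fi22.Gen
  | 0 => .a
  | 1 => .b
  | 2 => .c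
  | 3 => .d
  | 4 => .e
  | 5 => .f
  | 6 => .g
  | 7 => .h
  | _ => .i

/-- the value of a word with letters `0 … 8` -/
noncomputable def v2 (w : List ℕ) : K2 := wd2 (w.map gn)

theorem v2_append (u v : List ℕ) : v2 (u ++ v) = v2 u * v2 v := by
  unfold v2
  rw [List.map_append, wd2_append]

theorem v2_reverse (u : List ℕ) : v2 u.reverse = (v2 u)⁻¹ := by
  unfold v2
  rw [List.map_reverse, wd2_reverse]

theorem pi2_v2 (w : List ℕ) : pi2 (v2 w) = Fi22PtsRep.wd (w.map gn) := pi2_wd2 _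

/-- the network of a letter -/
noncomputable def ln (k : ℕ) : Net := Fi23Rel.net (Fi23Double.emb (gn k))

/-- the image of a point -/
noncomputable def im2 (w : List ℕ) (p : ℕ) : ℕ := ptWord (w.map ln) p

theorem im2_eq (w : List ℕ) (p : ℕ) :
    im2 w p = (Fi23Hom.rho (((v2 w : K2) : Spor.Fi23))) p := by
  have h : w.map ln = nw2 (w.map gn) := by
    unfold nw2
    rw [List.map_map, List.map_map]
    rfl
  unfold im2 v2
  rw [h, coe_wd2, Fi23Orb.rho_word]
  unfold nw2
  rw [ptWord_eq (Fi23Rel.wok _)]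

/-- the test -/
noncomputable def chk2 (u v : List ℕ) (p : ℕ) : Bool :=
  Bool.rec true false (Nat.beq (im2 u p) (im2 v p))

theorem v2_ne {u v : List ℕ} {p : ℕ} (h : chk2 u v p = true) : v2 u ≠ v2 v := by
  intro h1
  have h2 : im2 u p = im2 v p := by rw [im2_eq, im2_eq, h1]
  unfold chk2 at h
  rw [h2, Nat.beq_refl] at h
  exact absurd h (by simp)

end Cfsg.Agent.H326.QS.FiTwo
end

-- part: H326/QS/FiRow
section
/-!
# The frame of the row `Fi22` of S2491 (helper326; method and words of helper494)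

* `chkW x0 y t p` : the kernel check of one class: `y` a line of `W`, `t = (k, h, k', h')`;
* `RowN_of` : the row from the checks and from one pair of words which do not commute in `3.Fi22`.
-/

set_option autoImplicit false
set_option maxRecDepth 1000000
set_option exponentiation.threshold 300000

namespace Cfsg.Agent.H326.QS.FiRow

open Cfsg Cfsg.Spor Cfsg.Agent.H51.Mult Cfsg.Agent.H6.QO Cfsg.Agent.H777.Ore
open Cfsg.Agent.H123.Cls (band band_true chkL chkL_iff)
open Cfsg.Agent.H123.Cls.FiDat (W el el_append el_reverse words_cover gn_S)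
open Cfsg.Agent.H494.F22 (chkRel chkP rel relP wS rho rho_injective)
open Cfsg.Agent.H326.QS.FiTwo (K2 pi2 pce2 card_ker2 v2 v2_append v2_reverse chk2 v2_ne)

/-- the word of `h [x, k] h⁻¹` -/
def tw (x k h : List ℕ) : List ℕ := h ++ (x ++ k ++ x.reverse ++ k.reverse) ++ h.reverse

/-- the word of `[a, b]` -/
def cw (a b : List ℕ) : List ℕ := a ++ b ++ a.reverse ++ b.reverse

theorem el_cw (a b : List ℕ) : el (cw a b) = el a * el b * (el a)⁻¹ * (el b)⁻¹ := by
  simp only [cw, el_append, el_reverse]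

theorem v2_tw (x k h : List ℕ) :
    v2 (tw x k h) = v2 h * (v2 x * v2 k * (v2 x)⁻¹ * (v2 k)⁻¹) * (v2 h)⁻¹ := by
  simp only [tw, v2_append, v2_reverse]

theorem pi2_v2 (w : List ℕ) : pi2 (v2 w) = el w := by
  rw [FiTwo.pi2_v2]
  unfold Cfsg.Agent.Fischer.Fi22PtsRep.wd el
  rw [List.map_map]
  congr 1

theorem rho_el : ∀ {l : List ℕ}, (∀ x ∈ l, x < 9) → rho (el l) = wS l
  | [], _ => by
    show rho 1 = 1
    exact map_one _
  | x :: l, h => by
    rw [Cfsg.Agent.H123.Cls.FiDat.el_cons, map_mul, gn_S (h x List.mem_cons_self),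
      rho_el fun y hy => h y (List.mem_cons_of_mem _ hy), Cfsg.Agent.H494.F22.wS_cons]

/-- the check of one word: `u = v` in `Fi22` -/
noncomputable def chkE (u v : List ℕ) : Bool := band (chkL 9 u) (band (chkL 9 v) (chkP (u, v)))

theorem el_eq_of_chkE {u v : List ℕ} (h : chkE u v = true) : el u = el v := by
  obtain ⟨h1, h2⟩ := band_true h
  obtain ⟨h3, h4⟩ := band_true h2
  apply rho_injective
  rw [rho_el (chkL_iff _ u h1), rho_el (chkL_iff _ v h3)]
  exact relP (fun x hx => (chkL_iff _ u h1 x hx).trans (by norm_num)) (fun x hx => (chkL_iff _ v h3 x hx).trans (by norm_num)) h4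

/-- the check of one class: `(a, b)` the commutator, `(k, h, k', h', p)` the data -/
def Good (x a b : List ℕ) : Prop := ∃ k h k' h' : List ℕ, el (tw x k h) = el (cw a b) ∧
  el (tw x k' h') = el (cw a b) ∧ v2 (tw x k h) ≠ v2 (tw x k' h')

theorem good_of_chk {x a b k h k' h' : List ℕ} {p : ℕ} (h1 : chkE (tw x k h) (cw a b) = true)
    (h2 : chkE (tw x k' h') (cw a b) = true) (h3 : chk2 (tw x k h) (tw x k' h') p = true) : Good x a b :=
  ⟨k, h, k', h', el_eq_of_chkE h1, el_eq_of_chkE h2, v2_ne h3⟩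

theorem card6 : Nat.card (Multiplicative (ZMod 6)) = 6 := by
  rw [Nat.card_eq_fintype_card]
  rfl

/-- **the row** -/
theorem rowN {x : List ℕ} (hx : ∀ y ∈ W, el (cw y.2.1 y.2.2.1) ≠ 1 → Good x y.2.1 y.2.2.1)
    {K3 : Type} [Group K3] {π3 : K3 →* Spor.Fi22} (h3 : PCE π3) (hc3 : Nat.card π3.ker = 3)
    {c y3 : K3} (hy3 : π3 y3 = el x) (hcy : π3 (c * y3) = π3 (y3 * c)) (hne3 : c * y3 ≠ y3 * c) :
    RowN Spor.Fi22 := by
  intro L _ _ π hπ g hg
  obtain ⟨y, hy, θ, hθ⟩ := words_cover (π g)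
  rw [← el_cw] at hθ
  -- the twisted projection
  have hπ' : PCE ((θ.symm : Spor.Fi22 ≃* Spor.Fi22).toMonoidHom.comp π) := hπ.congr θ.symm
  have hg' : ((θ.symm : Spor.Fi22 ≃* Spor.Fi22).toMonoidHom.comp π) g = el (cw y.2.1 y.2.2.1) := by
    show θ.symm (π g) = _
    rw [hθ, MulEquiv.symm_apply_apply]
  have hne : el (cw y.2.1 y.2.2.1) ≠ 1 := by
    intro h1
    rw [h1, map_one] at hθ
    exact hg (hπ.cen (MonoidHom.mem_ker.2 hθ))
  obtain ⟨k, h, k', h', e1, e2, e3⟩ := hx y hy hne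
  refine FiRed.isC_of_triples (A := Multiplicative (ZMod 6)) Cfsg.Agent.S2053.result card6 pce2 card_ker2 h3 hc3 (x := c)
    (y3 := y3) hcy hne3 (y2 := v2 x) (h := v2 h) (k := v2 k) (h' := v2 h') (k' := v2 k') ?_ ?_ ?_ hπ' (g := g) ?_
  · rw [hy3, pi2_v2]
  · rw [← v2_tw, ← v2_tw, pi2_v2, pi2_v2, e1, e2]
  · rw [← v2_tw, ← v2_tw]
    exact e3
  · rw [hg', ← v2_tw, pi2_v2, e1]

end Cfsg.Agent.H326.QS.FiRow
end

private theorem dce_d72e635dfd57 : _root_.True := by
  try have : _root_.True := by simp only [_root_.Cfsg.Agent.H326.QS.FiTwo.wd2.eq_1]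
  try have : _root_.True := by simp only [_root_.Cfsg.Agent.H326.QS.FiRow.cw.eq_1]
  try have : _root_.True := by simp only [_root_.Cfsg.Agent.H326.QS.FiRow.tw.eq_1]
  exact _root_.True.intro
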